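import Cfsg.Agent.Lib.Coprime.Abelian
import Mathlib.GroupTheory.PGroup

/-! The `P × Q` lemma. -/

set_option autoImplicit false

namespace Cfsg.Agent.Lib.Coprime

open scoped Pointwise commutatorElement
open Subgroup

variable {G : Type*} [Group G]

/-- Thompson's `P × Q` lemma. -/
theorem le_centralizer_of_pq [Finite G] {p : ℕ} [Fact p.Prime] {P Q U : Subgroup G}
    (hP : IsPGroup p P) (hQ : (Nat.card Q).Coprime p) (hU : IsPGroup p U)
    (hPQ : P ≤ centralizer (Q : Set G)) (hPU : P ≤ normalizer (U : Set G))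
    (hQU : Q ≤ normalizer (U : Set G))
    (hC : U ⊓ centralizer (P : Set G) ≤ centralizer (Q : Set G)) :
    Q ≤ centralizer (U : Set G) := by
  by_contra hnot
  let V : Subgroup G := U ⊓ centralizer (Q : Set G)
  have hVU : V ≠ U := fun h => hnot (le_centralizer_iff.mp (h ▸ inf_le_right))
  let W : Subgroup G := U ⊓ normalizer (V : Set G)
  have hVW : V ≤ W := le_inf inf_le_left le_normalizer
  have hWV : ¬ W ≤ V := by
    intro h
    have : Group.IsNilpotent U := hU.isNilpotent
    have hlt : V.subgroupOf U < ⊤ :=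
      lt_of_le_of_ne le_top fun he => hVU (le_antisymm inf_le_left (subgroupOf_eq_top.mp he))
    obtain ⟨x, hx, hxV⟩ := SetLike.exists_of_lt (Group.normalizerCondition_of_isNilpotent _ hlt)
    refine hxV (mem_subgroupOf.mpr (h ⟨x.2, ?_⟩))
    show (x : G) ∈ normalizer (V : Set G)
    rw [mem_normalizer_iff]
    intro v
    constructor
    · exact fun hv => (mem_normalizer_iff.mp hx ⟨v, hv.1⟩).mp hv
    · intro hv
      have hvU : v ∈ U := by
        simpa [mul_assoc] using U.mul_mem (U.mul_mem (U.inv_mem x.2) hv.1) x.2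
      exact (mem_normalizer_iff.mp hx ⟨v, hvU⟩).mpr hv
  have hPV : P ≤ normalizer (V : Set G) :=
    (le_inf hPU (by
      intro x hx
      refine mem_normalizer_iff.mpr fun y => ?_
      have hxc : ∀ q ∈ Q, q * x = x * q := fun q hq => mem_centralizer_iff.mp (hPQ hx) q hq
      simp only [mem_centralizer_iff]
      constructor
      · intro hy q hq
        calc q * (x * y * x⁻¹) = (q * x) * y * x⁻¹ := by group
          _ = x * (q * y) * x⁻¹ := by rw [hxc q hq]; group
          _ = x * y * (q * x⁻¹) := by rw [show q * y = y * q from hy q hq]; group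
          _ = x * y * x⁻¹ * q := by
            rw [(Commute.inv_right (show Commute q x from hxc q hq)).eq]; group
      · intro hy q hq
        have h := hy q hq
        calc q * y = x⁻¹ * ((x * q) * y * x⁻¹) * x := by group
          _ = x⁻¹ * (q * (x * y * x⁻¹)) * x := by rw [← hxc q hq]; group
          _ = x⁻¹ * (x * y * x⁻¹ * q) * x := by rw [h]
          _ = y * x⁻¹ * (q * x) := by group
          _ = y * q := by rw [hxc q hq]; group)).trans inf_normalizer_le_normalizer_inf
  have hPW : P ≤ normalizer (W : Set G) :=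
    (le_inf hPU (hPV.trans le_normalizer)).trans inf_normalizer_le_normalizer_inf
  let X := W ⧸ V.subgroupOf W
  let φ := conjHom hPW
  have hVinv : ∀ (a : P) (w : W), w ∈ V.subgroupOf W → φ a w ∈ V.subgroupOf W := fun a w hw =>
    (mem_normalizer_iff.mp (hPV a.2) _).mp hw
  have : (V.subgroupOf W).Normal := (normal_subgroupOf_iff_le_normalizer hVW).mpr inf_le_right
  let act : MulAction P X :=
    { smul := fun a => QuotientGroup.map _ _ (φ a).toMonoidHom (hVinv a)
      one_smul := fun x => by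
        induction x using QuotientGroup.induction_on with
        | H x => show ((φ 1 x : W) : X) = _; rw [map_one]; rfl
      mul_smul := fun a b x => by
        induction x using QuotientGroup.induction_on with
        | H x => show ((φ (a * b) x : W) : X) = ((φ a (φ b x) : W) : X); rw [map_mul]; rfl }
  have hdvd : p ∣ Nat.card X := by
    obtain ⟨n, hn⟩ := IsPGroup.iff_card.mp (((hU.to_inf_left : IsPGroup p W)).to_quotient (V.subgroupOf W))
    rcases n with _ | n
    · exfalso
      rw [pow_zero, ← index_eq_card, index_eq_one, subgroupOf_eq_top] at hn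
      exact hWV hn
    · exact hn ▸ dvd_pow_self p n.succ_ne_zero
  obtain ⟨x, hx, hx1⟩ := hP.exists_fixed_point_of_prime_dvd_card_of_fixed_point X hdvd
    (a := (1 : X)) (fun a => map_one (QuotientGroup.map _ _ (φ a).toMonoidHom (hVinv a)))
  obtain ⟨⟨w, hwW⟩, rfl⟩ := QuotientGroup.mk_surjective x
  have hwV : w ∉ V := fun h => hx1 ((QuotientGroup.eq_one_iff (N := V.subgroupOf W) ⟨w, hwW⟩).mpr h).symm
  refine hwV ⟨hwW.1, ?_⟩
  show w ∈ centralizer (Q : Set G)
  rw [mem_centralizer_iff]
  intro q hq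
  have hqU : q * w * q⁻¹ ∈ U := (mem_normalizer_iff.mp (hQU hq) w).mp hwW.1
  let y : G := w⁻¹ * (q * w * q⁻¹)
  have hyU : y ∈ U := U.mul_mem (U.inv_mem hwW.1) hqU
  have hcom : ∀ v ∈ V, Commute q v := fun v hv => mem_centralizer_iff.mp hv.2 q hq
  have hyV : ∀ v ∈ V, Commute y v := by
    intro v hv
    have h1 : w * v * w⁻¹ ∈ V := (mem_normalizer_iff.mp hwW.2 v).mp hv
    have h2 : q * (w * v * w⁻¹) * q⁻¹ = w * v * w⁻¹ := by
      rw [(hcom _ h1).eq, mul_inv_cancel_right]
    have h3 : q⁻¹ * v * q = v := by rw [mul_assoc, ← (hcom v hv).eq, inv_mul_cancel_left]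
    have h4 : (q * w * q⁻¹) * v * (q * w * q⁻¹)⁻¹ = w * v * w⁻¹ := by
      calc _ = q * (w * (q⁻¹ * v * q) * w⁻¹) * q⁻¹ := by group
        _ = _ := by rw [h3, h2]
    have h5 : y * v * y⁻¹ = v := by
      calc _ = w⁻¹ * ((q * w * q⁻¹) * v * (q * w * q⁻¹)⁻¹) * w := by simp only [y]; group
        _ = v := by rw [h4]; group
    exact mul_inv_eq_iff_eq_mul.mp h5
  have hyP : y ∈ centralizer (P : Set G) := by
    rw [mem_centralizer_iff]
    intro a ha
    have h1 : w⁻¹ * (a * w * a⁻¹) ∈ V := by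
      have h2 := QuotientGroup.eq.mp
        ((hx ⟨a, ha⟩ : ((φ ⟨a, ha⟩ ⟨w, hwW⟩ : W) : X) = ((⟨w, hwW⟩ : W) : X))).symm
      simpa [mem_subgroupOf, φ, coe_conjHom_apply] using h2
    have haq : Commute a q := (mem_centralizer_iff.mp (hPQ ha) q hq).symm
    let v := w⁻¹ * (a * w * a⁻¹)
    have e0 : a * w * a⁻¹ = w * v := by simp [v]
    have e1 : a * y * a⁻¹ = v⁻¹ * w⁻¹ * (q * (w * v) * q⁻¹) := by
      calc a * y * a⁻¹ = (a * w * a⁻¹)⁻¹ * ((a * q) * w * (q⁻¹ * a⁻¹)) := by simp only [y]; group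
        _ = (a * w * a⁻¹)⁻¹ * (q * (a * w * a⁻¹) * q⁻¹) := by
          rw [haq.eq, (haq.symm.inv_inv).eq]; group
        _ = _ := by rw [e0]; group
    have hqv : q * v * q⁻¹ = v := by rw [(hcom v h1).eq, mul_inv_cancel_right]
    have e2 : a * y * a⁻¹ = y := by
      rw [e1]
      calc v⁻¹ * w⁻¹ * (q * (w * v) * q⁻¹) = v⁻¹ * y * (q * v * q⁻¹) := by simp only [y]; group
        _ = y := by rw [hqv, mul_assoc, (hyV v h1).eq, inv_mul_cancel_left]
    exact mul_inv_eq_iff_eq_mul.mp e2
  have hyQ : y ∈ V := ⟨hyU, hC ⟨hyU, hyP⟩⟩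
  have hqy : Commute q y := hcom y hyQ
  have hn : ∀ n : ℕ, q ^ n * w * (q ^ n)⁻¹ = w * y ^ n := by
    intro n
    induction n with
    | zero => simp
    | succ n ih =>
      calc q ^ (n + 1) * w * (q ^ (n + 1))⁻¹ = q * (q ^ n * w * (q ^ n)⁻¹) * q⁻¹ := by
            rw [pow_succ']; group
        _ = (q * w * q⁻¹) * (q * y ^ n * q⁻¹) := by rw [ih]; group
        _ = _ := by
          rw [(hqy.pow_right n).eq, mul_inv_cancel_right, pow_succ', show q * w * q⁻¹ = w * y by simp [y]]
          group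
  have hy1 : y = 1 := by
    have h1 := hn (orderOf q)
    rw [pow_orderOf_eq_one, one_mul, inv_one, mul_one, left_eq_mul] at h1
    obtain ⟨k, hk⟩ := IsPGroup.iff_orderOf.mp hU ⟨y, hyU⟩
    have h2 : orderOf y = p ^ k := by rw [← hk, Subgroup.orderOf_mk]
    have h3 : orderOf y ∣ orderOf q := orderOf_dvd_of_pow_eq_one h1
    have h4 : (orderOf y).Coprime (orderOf q) := by
      rw [h2]
      exact Nat.Coprime.pow_left k (hQ.symm.coprime_dvd_right (Subgroup.orderOf_dvd_natCard Q hq))
    exact orderOf_eq_one_iff.mp (h4.eq_one_of_dvd h3)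
  have h := hn 1
  rw [hy1, pow_one, one_pow, mul_one] at h
  exact mul_inv_eq_iff_eq_mul.mp h

end Cfsg.Agent.Lib.Coprime
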